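import Groth.Agent.Lib.EssFree.Transporter
import Groth.Agent.Lib.SecLocus.Locus

/-!
# The locus of points `x` with `{x} × Y` inside a closed subscheme, for `Y` smooth and connected
-/

set_option autoImplicit false
set_option backward.isDefEq.respectTransparency false
universe u

open CategoryTheory Limits AlgebraicGeometry MonoidalCategory CartesianMonoidalCategory MonObj

noncomputable section

namespace GrothLib.SecTransp14

open GrothLib.EssFree

variable {S : Scheme.{u}}

/-- The locus of points `x` of `X` with `{x} × Y` inside a closed subscheme of `X ⊗ Y`. -/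
theorem exists_closed_forall_points_smooth {X Y E : Over S} (e : E ⟶ X ⊗ Y) [IsClosedImmersion e.left]
    [Smooth Y.hom] [GeometricallyIrreducible Y.hom] :
    ∃ (Z : Over S) (z : Z ⟶ X), IsClosedImmersion z.left ∧
      (LocallyOfFinitePresentation e.left → LocallyOfFinitePresentation z.left) ∧
      ∀ (T : Over S) (g : T ⟶ X), (∃ w, w ≫ z = g) ↔
        ∀ (T' : Over S) (t : T' ⟶ T) (y : T' ⟶ Y), ∃ l : T' ⟶ E, l ≫ e = lift (t ≫ g) y := by
  haveI : Smooth (fst X Y).left := by
    show Smooth (pullback.fst X.hom Y.hom)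
    infer_instance
  haveI : GeometricallyIrreducible (fst X Y).left := by
    show GeometricallyIrreducible (pullback.fst X.hom Y.hom)
    infer_instance
  obtain ⟨Z, zι, hι, hZ, hfp⟩ := SecLocus.exists_closed_locus (fst X Y).left e.left
  refine ⟨Over.mk (zι ≫ X.hom), Over.homMk zι, hι, fun he => hfp he, fun T g => ?_⟩
  have sq := ((GrothLib.GrpSchField.isPullback_whiskerRight g Y).map (Over.forget S))
  have h1 : (∃ w, w ≫ (Over.homMk zι : Over.mk (zι ≫ X.hom) ⟶ X) = g) ↔ ∃ w, w ≫ zι = g.left := by
    refine ⟨fun ⟨w, hw⟩ => ⟨w.left, congrArg CommaMorphism.left hw⟩, fun ⟨w, hw⟩ => ?_⟩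
    exact ⟨Over.homMk w (show w ≫ zι ≫ X.hom = T.hom by rw [reassoc_of% hw]; exact Over.w g),
      Over.OverMorphism.ext hw⟩
  rw [h1, hZ]
  constructor
  · rintro ⟨l, hl⟩ T' t y
    let c : T'.left ⟶ pullback (fst X Y).left g.left :=
      pullback.lift ((lift t y).left ≫ (g ▷ Y).left) ((lift t y).left ≫ (fst T Y).left)
        (by rw [Category.assoc, Category.assoc]; exact congrArg ((lift t y).left ≫ ·) sq.w)
    have hc : (c ≫ l) ≫ e.left = (lift (t ≫ g) y).left := by
      rw [Category.assoc, hl, pullback.lift_fst, ← Over.comp_left, lift_whiskerRight]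
    refine ⟨Over.homMk (c ≫ l) ?_, Over.OverMorphism.ext hc⟩
    rw [← Over.w e, ← Category.assoc, hc]
    exact Over.w (lift (t ≫ g) y)
  · intro h
    obtain ⟨l, hl⟩ := h (T ⊗ Y) (fst T Y) (snd T Y)
    refine ⟨sq.isoPullback.inv ≫ l.left, ?_⟩
    have h2 : lift (fst T Y ≫ g) (snd T Y) = g ▷ Y := by
      rw [← lift_whiskerRight, lift_fst_snd, Category.id_comp]
    rw [Category.assoc]
    exact (congrArg (sq.isoPullback.inv ≫ ·)
      ((congrArg CommaMorphism.left hl).trans (congrArg CommaMorphism.left h2))).trans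
        sq.isoPullback_inv_fst

end GrothLib.SecTransp14
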